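import Groth.Agent.Lib.ProjTilde.Pairing
import Groth.Agent.Lib.TensorMod.Pullback

/-!
# Pairings which are perfect over an open set
-/

noncomputable section

universe u

open CategoryTheory CategoryTheory.Limits AlgebraicGeometry Opposite TopologicalSpace

namespace Groth.Agent.H25.PairRestrict

open Groth.Agent.Lib.TensorMod Groth.Agent.Lib.TensorMod.Basic Groth.Agent.Lib.TensorMod.Dual
open Groth.Agent.Lib.ProjTilde

variable {X : Scheme.{u}} {M N H : X.Modules}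

theorem exists_restrict_iso {μ : ∀ W : X.Opens, Γ(M, W) → Γ(N, W) → Γ(H, W)}
    (hμ : Pairing.IsPairing μ) (U₀ : X.Opens)
    (hp : ∀ x ∈ U₀, ∃ (U : X.Opens) (e : Γ(N, U)), x ∈ U ∧ ∀ (V : X.Opens) (h : V ≤ U),
      (∀ n : Γ(N, V), ∃ a : Γ(X, V), n = a • rs N h e) ∧ Function.Bijective fun m => μ V m (rs N h e)) :
    Nonempty ((CohB1.tensorMod M N).restrict U₀.ι ≅ H.restrict U₀.ι) := by
  let ν : ∀ W : (U₀ : Scheme.{u}).Opens,
      Γ(M.restrict U₀.ι, W) → Γ(N.restrict U₀.ι, W) → Γ(H.restrict U₀.ι, W) :=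
    fun W => μ (U₀.ι ''ᵁ W)
  have hν : Pairing.IsPairing ν :=
    { add_left := fun W m m' n => hμ.add_left _ m m' n
      smul_left := fun W r m n => hμ.smul_left _ ((U₀.ι.appIso W).inv r) m n
      add_right := fun W m n n' => hμ.add_right _ m n n'
      smul_right := fun W r m n => hμ.smul_right _ ((U₀.ι.appIso W).inv r) m n
      nat := fun W W' h m n => hμ.nat _ _ (Scheme.Hom.image_mono _ h) m n }
  have hν' : Pairing.IsLocPerfect ν := by
    intro y
    obtain ⟨U, e, hxU, he⟩ := hp y.1 y.2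
    have hle : U₀.ι ''ᵁ (U₀.ι ⁻¹ᵁ U) ≤ U := by
      rintro _ ⟨z, hz, rfl⟩; exact hz
    refine ⟨U₀.ι ⁻¹ᵁ U, rs N hle e, hxU, fun V hV => ?_⟩
    have hV' : U₀.ι ''ᵁ V ≤ U := (Scheme.Hom.image_mono _ hV).trans hle
    obtain ⟨hgen, hbij⟩ := he _ hV'
    have e0 : rs (N.restrict U₀.ι) hV (rs N hle e) = rs N hV' e :=
      rs_rs N hle (Scheme.Hom.image_mono _ hV) e
    refine ⟨fun n => ?_, ?_⟩
    · obtain ⟨a, ha⟩ := hgen n
      refine ⟨(U₀.ι.appIso V).hom a, ?_⟩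
      change n = (U₀.ι.appIso V).inv ((U₀.ι.appIso V).hom a) •
        (show Γ(N, U₀.ι ''ᵁ V) from rs (N.restrict U₀.ι) hV (rs N hle e))
      rw [show (U₀.ι.appIso V).inv ((U₀.ι.appIso V).hom a) = a from
        (U₀.ι.appIso V).hom_inv_id_apply a]
      exact ha.trans (congrArg (a • ·) e0.symm)
    · rw [e0]; exact hbij
  exact ⟨Pullback.restrictTensorIso U₀.ι M N ≪≫ Pairing.iso hν hν'⟩

end Groth.Agent.H25.PairRestrict
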